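import Cfsg.Agent.Lib.CharDeep.Half.Start
import Cfsg.Agent.Lib.BrauerP.Main
import Cfsg.Agent.Lib.Classical.AltIso

/-!
# The case of degree `(p - 1) / 2`: the central quotient is `PSL₂(p)`
-/

set_option autoImplicit false
set_option linter.style.haveILetI false
set_option linter.unusedSectionVars false
set_option linter.unusedVariables false

namespace Cfsg.Agent.Lib.CharDeep.Half

open Cfsg
open Cfsg.Agent.Lib.ExcP.Gram Cfsg.Agent.Lib.ExcP.Inst Cfsg.Agent.Lib.ModRep.BlockTh
open scoped commutatorElement

universe u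

variable {G : Type u} [Group G] {p f : ℕ} [hp : Fact p.Prime] {P : Subgroup G}

/-- The projective special linear groups over isomorphic fields are isomorphic. -/
theorem psl_congr {F K : Type*} [Field F] [Field K] (φ : F ≃+* K) :
    Nonempty (Matrix.ProjectiveSpecialLinearGroup (Fin 2) F ≃* Matrix.ProjectiveSpecialLinearGroup (Fin 2) K) := by
  let e : Matrix.SpecialLinearGroup (Fin 2) F ≃* Matrix.SpecialLinearGroup (Fin 2) K :=
    MonoidHom.toMulEquiv (Matrix.SpecialLinearGroup.map (φ : F →+* K))
      (Matrix.SpecialLinearGroup.map (φ.symm : K →+* F))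
      (by ext A i j; simp) (by ext A i j; simp)
  have he : (Subgroup.center (Matrix.SpecialLinearGroup (Fin 2) F)).map e.toMonoidHom =
      Subgroup.center (Matrix.SpecialLinearGroup (Fin 2) K) := by
    ext x
    simp only [Subgroup.mem_map, Subgroup.mem_center_iff]
    constructor
    · rintro ⟨a, ha, rfl⟩ g
      obtain ⟨g', rfl⟩ := e.surjective g
      show e g' * e a = e a * e g'
      rw [← map_mul, ← map_mul, ha g']
    · intro hx
      refine ⟨e.symm x, fun g => ?_, e.apply_symm_apply x⟩
      apply e.injective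
      rw [map_mul, map_mul, e.apply_symm_apply]
      exact hx (e g)
  exact ⟨QuotientGroup.congr _ _ e he⟩

section Quot

variable [Finite G] (h : HD P p f)

include h

/-- The group is perfect. -/
theorem HD.perfect : commutator G = ⊤ := by
  classical
  letI := Fintype.ofFinite G
  obtain ⟨y, hy⟩ := h.exists_not_mem
  obtain ⟨a, ha, hya⟩ : ∃ a ∈ P, (y : G)⁻¹ * a * y ≠ a := by
    by_contra hcon
    push Not at hcon
    apply hy
    rw [Subgroup.mem_centralizer_iff]
    intro a ha
    have h1 := hcon a ha
    have h2 : a * (y : G) = (y : G) * ((y : G)⁻¹ * a * y) := by group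
    rw [h2, h1]
  have hyP : (y : G)⁻¹ * a * y ∈ P := by
    have h1 := (Subgroup.mem_normalizer_iff.mp ((Nn P).inv_mem y.2) a).mp ha
    simpa using h1
  let w : G := a⁻¹ * ((y : G)⁻¹ * a * y)
  have hwP : w ∈ P := P.mul_mem (P.inv_mem ha) hyP
  have hw1 : w ≠ 1 := by
    intro h1
    apply hya
    have h2 : a⁻¹ * ((y : G)⁻¹ * a * y) = 1 := h1
    rw [inv_mul_eq_one] at h2
    exact h2.symm
  have hwC : w ∈ commutator G := by
    have h1 : w = ⁅a⁻¹, (y : G)⁻¹⁆ := by
      rw [commutatorElement_def]
      simp only [w, inv_inv]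
      group
    rw [h1, commutator_def]
    exact Subgroup.commutator_mem_commutator (Subgroup.mem_top _) (Subgroup.mem_top _)
  have hPC : P ≤ commutator G := by
    rw [eq_zpowers_of_mem h.hP hwP hw1, Subgroup.zpowers_le]
    exact hwC
  rw [eq_top_iff, ← h.hgen, Subgroup.closure_le]
  intro u hu
  by_cases hu1 : u = 1
  · rw [hu1]
    exact Subgroup.one_mem _
  have hord : orderOf u = p := orderOf_eq_prime hu hu1
  have hcard : Nat.card (Subgroup.zpowers u) = p := by rw [Nat.card_zpowers, hord]
  obtain ⟨x, hx⟩ := exists_conj_of_card h.hP h.hp2 hcard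
  have hmem : u ∈ P.map (MulAut.conj x).toMonoidHom := by
    rw [hx]
    exact Subgroup.mem_zpowers u
  obtain ⟨v, hv, hvu⟩ := Subgroup.mem_map.mp hmem
  rw [← hvu]
  have h2 : (MulAut.conj x).toMonoidHom v = x * v * x⁻¹ := rfl
  rw [h2]
  exact (inferInstance : (commutator G).Normal).conj_mem v (hPC hv) x

/-- The central quotient is perfect. -/
theorem HD.perfect_quot : commutator (G ⧸ Subgroup.center G) = ⊤ := by
  have h1 : Function.Surjective (QuotientGroup.mk' (Subgroup.center G)) := QuotientGroup.mk'_surjective _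
  rw [commutator_def, ← Subgroup.map_top_of_surjective _ h1, ← Subgroup.map_commutator, ← commutator_def, h.perfect,
    Subgroup.map_top_of_surjective _ h1]

/-- The image of an element of order `p`. -/
theorem HD.orderOf_quot {x : G} (hx : x ∈ P) (hx1 : x ≠ 1) :
    orderOf (QuotientGroup.mk' (Subgroup.center G) x) = p := by
  have h1 : x ^ p = 1 := by
    have h2 := pow_card_eq_one' (x := (⟨x, hx⟩ : P))
    rw [h.hP] at h2
    have h3 := congrArg Subtype.val h2
    simpa using h3
  apply orderOf_eq_prime
  · rw [← map_pow, h1, map_one]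
  · intro h2
    rw [QuotientGroup.mk'_apply, QuotientGroup.eq_one_iff] at h2
    exact h.not_central hx hx1 h2

/-- The centralizer in the central quotient. -/
theorem HD.centralizer_quot {x : G} (hx : x ∈ P) (hx1 : x ≠ 1) :
    Subgroup.centralizer ({QuotientGroup.mk' (Subgroup.center G) x} : Set (G ⧸ Subgroup.center G)) =
      Subgroup.zpowers (QuotientGroup.mk' (Subgroup.center G) x) := by
  classical
  have hx1' : x ^ p = 1 := by
    have h2 := pow_card_eq_one' (x := (⟨x, hx⟩ : P))
    rw [h.hP] at h2
    have h3 := congrArg Subtype.val h2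
    simpa using h3
  apply le_antisymm
  · intro w hw
    obtain ⟨g, rfl⟩ := QuotientGroup.mk'_surjective _ w
    rw [Subgroup.mem_centralizer_singleton_iff] at hw
    -- the commutator is central
    let k : G := g⁻¹ * x * g * x⁻¹
    have hk : k ∈ Subgroup.center G := by
      rw [← QuotientGroup.eq_one_iff (N := Subgroup.center G)]
      have h1 : QuotientGroup.mk' (Subgroup.center G) k = 1 := by
        simp only [k, map_mul, map_inv]
        rw [mul_assoc _ (QuotientGroup.mk' (Subgroup.center G) x), ← hw]
        group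
      exact h1
    have hkx : g⁻¹ * x * g = k * x := by
      simp only [k]
      group
    have hkp : k ^ p = 1 := by
      have h1 : (k * x) ^ p = k ^ p * x ^ p := by
        apply Commute.mul_pow
        exact (Subgroup.mem_center_iff.mp hk x).symm
      rw [hx1', mul_one, ← hkx] at h1
      have h2 : (g⁻¹ * x * g) ^ p = 1 := by
        have h3 : g⁻¹ * x * g = g⁻¹ * x * g⁻¹⁻¹ := by simp
        rw [h3, conj_pow, hx1']
        simp
      rw [← h1, h2]
    have hk1 : k = 1 := by
      by_contra hne
      apply h.reg_of_central hk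
      rw [orderOf_eq_prime hkp hne]
    have hcomm : x * g = g * x := by
      have h1 : g⁻¹ * x * g = x := by rw [hkx, hk1, one_mul]
      have h2 : x * g = g * (g⁻¹ * x * g) := by group
      rw [h2, h1]
    have hP' : P = Subgroup.zpowers x := eq_zpowers_of_mem h.hP hx hx1
    have hgC : g ∈ Cn P := by
      rw [Subgroup.mem_centralizer_iff]
      intro a ha
      have ha' : a ∈ Subgroup.zpowers x := by
        rw [← hP']
        exact ha
      rw [Subgroup.mem_zpowers_iff] at ha'
      obtain ⟨n, rfl⟩ := ha'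
      exact (Commute.zpow_left hcomm n).eq
    obtain ⟨a, z, hc⟩ := h.exists_dec ⟨g, hgC⟩
    have hg : g = a * z := hc
    have ha : (a : G) ∈ Subgroup.zpowers x := by
      rw [← hP']
      exact a.2
    rw [Subgroup.mem_zpowers_iff] at ha
    obtain ⟨n, hn⟩ := ha
    rw [Subgroup.mem_zpowers_iff]
    refine ⟨n, ?_⟩
    rw [← map_zpow, hn, hg, map_mul]
    have h3 : QuotientGroup.mk' (Subgroup.center G) (z : G) = 1 := by
      rw [QuotientGroup.mk'_apply, QuotientGroup.eq_one_iff]
      exact z.2
    rw [h3, mul_one]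
  · rw [Subgroup.zpowers_le, Subgroup.mem_centralizer_singleton_iff]

/-- The number of Sylow subgroups. -/
theorem HD.card_sylow_le (hb : Nat.card G ≤ 2 * p * Nat.card (Subgroup.center G) * f * (f + 1)) :
    Nat.card (Sylow p G) ≤ p + 1 := by
  classical
  have hfac : Nat.card P = p ^ (Nat.card G).factorization p := by
    have hpp := hp.out
    have hdiv : p ∣ Nat.card G := by
      rw [← h.hP]
      exact Subgroup.card_subgroup_dvd_card P
    have h2 : 1 ≤ (Nat.card G).factorization p := (hpp.dvd_iff_one_le_factorization Nat.card_pos.ne').mp hdiv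
    have h3 : ¬ 2 ≤ (Nat.card G).factorization p := fun h4 =>
      h.hp2 ((hpp.pow_dvd_iff_le_factorization Nat.card_pos.ne').mpr h4)
    have h4 : (Nat.card G).factorization p = 1 := by omega
    rw [h4, pow_one, h.hP]
  let S : Sylow p G := Sylow.ofCard P hfac
  have hS : (S : Subgroup G) = P := Sylow.coe_ofCard P hfac
  have h1 : Nat.card (Sylow p G) = (Nn P).index := by
    rw [Sylow.card_eq_index_normalizer S]
    have h5 : Subgroup.normalizer ((S : Subgroup G) : Set G) = Nn P := by rw [hS]
    exact congrArg Subgroup.index h5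
  have h2 : (Nn P).index * Nat.card (Nn P) = Nat.card G := Subgroup.index_mul_card _
  have hN : Nat.card (Nn P) = f * (p * Nat.card (Subgroup.center G)) := by
    letI := Fintype.ofFinite G
    letI : Fintype (Cn P) := Fintype.ofFinite _
    letI : Fintype (Subgroup.center G) := Fintype.ofFinite _
    letI : Fintype P := Fintype.ofFinite _
    letI : Fintype (Nn P) := Fintype.ofFinite _
    haveI := finite_DD (p := p) (P := P) h.hP h.hp2
    letI : Fintype (DD P p) := Fintype.ofFinite _
    rw [h.hf, h.card_Cn]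
  have h3 : 0 < Nat.card (Nn P) := Nat.card_pos
  rw [h1]
  have h4 : (Nn P).index * Nat.card (Nn P) ≤ (p + 1) * Nat.card (Nn P) := by
    rw [h2]
    refine hb.trans (le_of_eq ?_)
    rw [hN]
    have := h.hpf
    calc 2 * p * Nat.card (Subgroup.center G) * f * (f + 1)
        = (2 * f + 2) * (f * (p * Nat.card (Subgroup.center G))) := by ring
      _ = (p + 1) * (f * (p * Nat.card (Subgroup.center G))) := by
          rw [show 2 * f + 2 = p + 1 by omega]
  exact Nat.le_of_mul_le_mul_right h4 h3

/-- **The central quotient is `PSL₂(p)`**. -/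
theorem HD.quot_iso (hb : Nat.card G ≤ 2 * p * Nat.card (Subgroup.center G) * f * (f + 1)) :
    Nonempty ((G ⧸ Subgroup.center G) ≃* Matrix.ProjectiveSpecialLinearGroup (Fin 2) (ZMod p)) := by
  classical
  obtain ⟨x, hx, hx1⟩ : ∃ x ∈ P, x ≠ 1 := by
    have : Nontrivial P := Finite.one_lt_card_iff_nontrivial.mp (by rw [h.hP]; exact hp.out.one_lt)
    obtain ⟨x, hx⟩ := exists_ne (1 : P)
    exact ⟨x, x.2, fun h1 => hx (Subtype.ext h1)⟩
  have hn : 2 * Nat.card (Sylow p (G ⧸ Subgroup.center G)) < (p + 1) * (p + 2) := by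
    have h1 : Nat.card (Sylow p (G ⧸ Subgroup.center G)) ≤ Nat.card (Sylow p G) :=
      Nat.card_le_card_of_surjective _ (Sylow.mapSurjective_surjective (QuotientGroup.mk'_surjective (Subgroup.center G)) p)
    have h2 := h.card_sylow_le hb
    have := hp.out.two_le
    nlinarith
  have hcardq : Nat.card (G ⧸ Subgroup.center G) * Nat.card (Subgroup.center G) = Nat.card G := by
    rw [← Subgroup.index_eq_card]
    exact Subgroup.index_mul_card _
  rcases Cfsg.Agent.Lib.BrauerP.Main.main' h.perfect_quot _ (h.orderOf_quot hx hx1) (h.centralizer_quot hx hx1) hn with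
    ⟨F, _, _, hF, -, ⟨e⟩⟩ | ⟨m, F, _, _, hF, hpm, h5, ⟨e⟩⟩
  · obtain ⟨e'⟩ := psl_congr (ZMod.ringEquivOfPrime F hp.out hF).symm
    exact ⟨e.trans e'⟩
  · exfalso
    have h1 := Cfsg.Agent.Lib.Classical.AltIso.card_psl_two_mul (F := F)
    rw [← Nat.card_congr e.toEquiv, hF] at h1
    have hm : 1 ≤ m := by
      rcases Nat.eq_zero_or_pos m with h2 | h2
      · subst h2
        simp at hpm
        omega
      · exact h2
    have hq : 2 ^ m = 2 * f := by
      have := h.hpf
      omega
    have hodd : Nat.gcd (2 ^ m - 1) 2 = 1 := by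
      obtain ⟨k, rfl⟩ : ∃ k, m = k + 1 := ⟨m - 1, by omega⟩
      have h2 : 2 ^ (k + 1) - 1 = 2 * (2 ^ k - 1) + 1 := by
        have : 1 ≤ 2 ^ k := Nat.one_le_two_pow
        rw [pow_succ]
        omega
      rw [h2]
      simp
    rw [hodd, mul_one, hq] at h1
    have hf2 := h.hf2
    have hf3 : 3 ≤ f := by
      have := h.hpf
      omega
    have h3 : Nat.card (G ⧸ Subgroup.center G) * Nat.card (Subgroup.center G) ≤
        (2 * p * f * (f + 1)) * Nat.card (Subgroup.center G) := by
      rw [hcardq]
      refine hb.trans (le_of_eq ?_)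
      ring
    have h4 : Nat.card (G ⧸ Subgroup.center G) ≤ 2 * p * f * (f + 1) :=
      Nat.le_of_mul_le_mul_right h3 Nat.card_pos
    rw [h1] at h4
    have h5' : 2 * f * ((2 * f - 1) * (2 * f + 1)) ≤ 2 * (2 * f + 1) * f * (f + 1) := by
      have := h.hpf
      rwa [← this] at h4 ⊢
    obtain ⟨t, rfl⟩ : ∃ t, f = t + 3 := ⟨f - 3, by omega⟩
    have h6 : 2 * (t + 3) - 1 = 2 * t + 5 := by omega
    rw [h6] at h5'
    nlinarith

end Quot

end Cfsg.Agent.Lib.CharDeep.Half
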