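import Cfsg.Agent.Lib.CharDeep.Half.Quot
import Cfsg.Agent.Lib.CharDeep.Half.Sylow
import Cfsg.Agent.Lib.Char.Extend

/-!
# The case of degree `(p - 1) / 2`: the theorem for the whole group
-/

set_option autoImplicit false
set_option linter.style.haveILetI false
set_option linter.unusedSectionVars false
set_option linter.unusedVariables false

namespace Cfsg.Agent.Lib.CharDeep.Half

open Cfsg
open Cfsg.Agent.Lib.Char.Basic Cfsg.Agent.Lib.Char.Ortho Cfsg.Agent.Lib.Char.Linear Cfsg.Agent.Lib.Char.Degree
open Cfsg.Agent.Lib.ExcP.Gram Cfsg.Agent.Lib.ExcP.Inst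
open Cfsg.Agent.Lib.ModRep.ThGram
open Cfsg.Agent.Lib.CharDeep.BrauerDeg
open Cfsg.Agent.Lib.Char.Extend

universe u

variable {G : Type u} [Group G] [Finite G]

/-- An element centralizing a subgroup on which a character is irreducible has a value of maximal norm. -/
theorem norm_of_comm {L : Subgroup G} {χ : G → ℂ} (hχ : IsCharacter G χ) (hL : IsIrrCharacter L (fun a : L => χ a))
    {t : G} (ht : ∀ u ∈ L, t * u = u * t) : ‖χ t‖ = (charDegree χ : ℝ) := by
  classical
  let H : Subgroup G := L ⊔ Subgroup.zpowers t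
  letI : Fintype H := Fintype.ofFinite _
  have hLH : L ≤ H := le_sup_left
  have htH : t ∈ H := Subgroup.mem_sup_right (Subgroup.mem_zpowers t)
  have hHc : H ≤ Subgroup.centralizer ({t} : Set G) := by
    apply sup_le
    · intro u hu
      rw [Subgroup.mem_centralizer_singleton_iff]
      exact (ht u hu).symm
    · rw [Subgroup.zpowers_le, Subgroup.mem_centralizer_singleton_iff]
  have hχH : IsCharacter H (fun a : H => χ a) := isCharacter_restrict H hχ
  have hirr : IsIrrCharacter H (fun a : H => χ a) :=
    isIrrCharacter_of_comp_isIrr (Subgroup.inclusion hLH) hχH hL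
  let t' : H := ⟨t, htH⟩
  have hcentral : ∀ d : H, d * t' = t' * d := by
    intro d
    apply Subtype.ext
    exact Subgroup.mem_centralizer_singleton_iff.mp (hHc d.2)
  have hone : χ ((1 : H) : G) = (charDegree χ : ℂ) := by
    rw [charDegree_natCast hχ]
    rfl
  have h0 : (charDegree χ : ℂ) ≠ 0 := by
    rw [charDegree_natCast hχ]
    have h1 := Cfsg.Agent.Lib.Char.Complete.irr_one_ne_zero hirr
    exact h1
  let lam : ℂ := χ t' / (charDegree χ : ℂ)
  have hmul : ∀ d : H, χ ((t' * d : H) : G) = lam * χ d := by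
    intro d
    have h1 := irr_mul_of_central hirr hcentral d
    simp only [lam]
    rw [← hone]
    exact h1
  have hpow : ∀ n : ℕ, χ ((t' ^ n : H) : G) = lam ^ n * (charDegree χ : ℂ) := by
    intro n
    induction n with
    | zero =>
      simp only [pow_zero, one_mul]
      exact hone
    | succ n ih =>
      rw [pow_succ', hmul, ih]
      ring
  have hn := hpow (orderOf t')
  rw [pow_orderOf_eq_one, hone] at hn
  have hlam : lam ^ (orderOf t') = 1 := by
    have h2 : (lam ^ (orderOf t') - 1) * (charDegree χ : ℂ) = 0 := by linear_combination - hn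
    rcases mul_eq_zero.mp h2 with h3 | h3
    · linear_combination h3
    · exact absurd h3 h0
  have hnorm : ‖lam‖ = 1 := Complex.norm_eq_one_of_pow_eq_one hlam (orderOf_pos t').ne'
  have h4 : χ t = lam * (charDegree χ : ℂ) := by
    simp only [lam]
    field_simp
    rfl
  rw [h4, norm_mul, hnorm, one_mul]
  simp

/-- **The theorem for the whole group**. -/
theorem main {p : ℕ} [hp : Fact p.Prime] (hdiv : p ∣ Nat.card G) (hsq : ¬ p ^ 2 ∣ Nat.card G)
    (hnn : ∀ H : Subgroup G, H.Normal → Nat.card H ≠ p) {χ : G → ℂ} (hχ : IsCharacter G χ)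
    (hfaith : ∀ g : G, χ g = χ 1 → g = 1) (hdeg : 2 * charDegree χ + 1 = p) :
    Nonempty ((G ⧸ Subgroup.center G) ≃* Matrix.ProjectiveSpecialLinearGroup (Fin 2) (ZMod p)) := by
  classical
  have hpp : p.Prime := hp.out
  have hc := card_sylow_of_sq hdiv hsq
  let L : Subgroup G := Subgroup.closure {u : G | u ^ p = 1}
  have hLn : L.Normal := by
    constructor
    intro n hn g
    induction hn using Subgroup.closure_induction with
    | mem x hx =>
      apply Subgroup.subset_closure
      show (g * x * g⁻¹) ^ p = 1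
      rw [conj_pow, show x ^ p = 1 from hx]
      simp
    | one =>
      simp only [mul_one, mul_inv_cancel]
      exact L.one_mem
    | mul x y _ _ hx hy =>
      have h1 : g * (x * y) * g⁻¹ = (g * x * g⁻¹) * (g * y * g⁻¹) := by group
      rw [h1]
      exact L.mul_mem hx hy
    | inv x _ hx =>
      have h1 : g * x⁻¹ * g⁻¹ = (g * x * g⁻¹)⁻¹ := by group
      rw [h1]
      exact L.inv_mem hx
  have hgenL : Subgroup.closure {u : L | u ^ p = 1} = ⊤ := by
    have h1 := Subgroup.closure_closure_coe_preimage (k := {u : G | u ^ p = 1})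
    rw [← h1]
    congr 1
    ext u
    simp only [Set.mem_setOf_eq, Set.mem_preimage]
    constructor
    · intro h
      have h2 := congrArg Subtype.val h
      simpa using h2
    · intro h
      apply Subtype.ext
      simpa using h
  have hcardL : Nat.card L ∣ Nat.card G := Subgroup.card_subgroup_dvd_card L
  have hp2L : ¬ p ^ 2 ∣ Nat.card L := fun h => hsq (h.trans hcardL)
  have hχL : IsCharacter L (fun a : L => χ a) := isCharacter_restrict L hχ
  haveI := finite_irrCharacter (G := L)
  letI := Fintype.ofFinite (IrrCharacter L)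
  obtain ⟨m, hm⟩ := exists_nat_combination hχL
  have hval : ∀ a : L, χ a = ∑ i, (m i : ℂ) * (i : L → ℂ) a := by
    intro a
    have h1 := congrFun hm a
    rw [Finset.sum_apply] at h1
    simpa using h1
  have hsum : charDegree χ = ∑ j, m j * charDegree (j : L → ℂ) := by
    have h1 : (charDegree χ : ℂ) = ((∑ j, m j * charDegree (j : L → ℂ) : ℕ) : ℂ) := by
      rw [charDegree_natCast hχ]
      have h2 := hval 1
      simp only [OneMemClass.coe_one] at h2
      rw [h2]
      push_cast
      refine Finset.sum_congr rfl fun j _ => ?_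
      rw [charDegree_natCast (isCharacter_of_isIrrCharacter j.2)]
    exact_mod_cast h1
  have hdegm : ∀ i, m i ≠ 0 → charDegree (i : L → ℂ) ≤ charDegree χ := by
    intro i hi
    rw [hsum]
    calc charDegree (i : L → ℂ) ≤ m i * charDegree (i : L → ℂ) := Nat.le_mul_of_pos_left _ (Nat.pos_of_ne_zero hi)
      _ ≤ _ := Finset.single_le_sum (f := fun j => m j * charDegree (j : L → ℂ)) (fun _ _ => Nat.zero_le _) (Finset.mem_univ i)
  obtain ⟨u₀, hu₀⟩ := exists_prime_orderOf_dvd_card' p hdiv
  have hu₀L : u₀ ∈ L := Subgroup.subset_closure (by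
    show u₀ ^ p = 1
    rw [← hu₀]
    exact pow_orderOf_eq_one u₀)
  have hdivL : p ∣ Nat.card L := by
    have h1 : orderOf (⟨u₀, hu₀L⟩ : L) = p := by
      rw [← hu₀]
      exact Subgroup.orderOf_mk _ _
    rw [← h1]
    exact orderOf_dvd_natCard _
  -- a constituent of full degree
  have hex : ∃ i, m i ≠ 0 ∧ charDegree (i : L → ℂ) = charDegree χ := by
    by_contra hcon
    push Not at hcon
    have hpow : ∀ a : L, a ^ p = 1 := by
      intro a
      apply Subtype.ext
      have h1 : χ ((a ^ p : L) : G) = χ ((1 : L) : G) := by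
        rw [hval, hval]
        refine Finset.sum_congr rfl fun i _ => ?_
        by_cases hi : m i = 0
        · simp [hi]
        · rw [pow_mem_ker hp2L hgenL i.2 (by have h3 := hdegm i hi; have h4 := hcon i hi; omega) a]
      apply hfaith
      simpa using h1
    have hpg : IsPGroup p L := fun g => ⟨1, by simpa using hpow g⟩
    obtain ⟨n, hn⟩ := IsPGroup.iff_card.mp hpg
    have hn0 : n ≠ 0 := by
      rintro rfl
      rw [pow_zero] at hn
      rw [hn] at hdivL
      exact hpp.one_lt.ne' (Nat.dvd_one.mp hdivL)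
    have hn1 : n < 2 := by
      by_contra hge
      push Not at hge
      apply hp2L
      rw [hn]
      exact pow_dvd_pow p hge
    have hn2 : n = 1 := by omega
    apply hnn L hLn
    rw [hn, hn2, pow_one]
  obtain ⟨i, hi, hdi⟩ := hex
  -- the restriction is irreducible
  have hf0 : 0 < charDegree χ := by
    have := hpp.two_le
    omega
  have hχi : ∀ a : L, χ a = (i : L → ℂ) a := by
    have hpos : ∀ j : IrrCharacter L, 0 < charDegree (j : L → ℂ) := fun j => charDegree_pos j.2
    have h1 : m i * charDegree χ + ∑ j ∈ Finset.univ.erase i, m j * charDegree (j : L → ℂ) = charDegree χ := by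
      rw [← hdi]
      conv_rhs => rw [hdi, hsum]
      rw [Finset.add_sum_erase _ (fun j => m j * charDegree (j : L → ℂ)) (Finset.mem_univ i)]
    have hmi : m i = 1 := by
      have h2 : 1 ≤ m i := Nat.pos_of_ne_zero hi
      have h3 : m i * charDegree χ ≤ 1 * charDegree χ := by
        rw [one_mul]
        omega
      have h4 := Nat.le_of_mul_le_mul_right h3 hf0
      omega
    have hother : ∀ j ∈ Finset.univ.erase i, m j = 0 := by
      have h2 : ∑ j ∈ Finset.univ.erase i, m j * charDegree (j : L → ℂ) = 0 := by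
        rw [hmi, one_mul] at h1
        omega
      intro j hj
      have h3 := (Finset.sum_eq_zero_iff.mp h2) j hj
      rcases mul_eq_zero.mp h3 with h4 | h4
      · exact h4
      · exact absurd h4 (hpos j).ne'
    intro a
    rw [hval, ← Finset.add_sum_erase _ _ (Finset.mem_univ i), hmi]
    rw [Finset.sum_eq_zero (fun j hj => by rw [hother j hj]; simp)]
    simp
  have hLirr : IsIrrCharacter L (fun a : L => χ a) := by
    have h1 : (fun a : L => χ a) = (i : L → ℂ) := funext hχi
    rw [h1]
    exact i.2
  have hfaithi : ∀ g : L, (i : L → ℂ) g = (i : L → ℂ) 1 → g = 1 := by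
    intro g hg
    rw [← hχi, ← hχi] at hg
    exact Subtype.ext (hfaith _ hg)
  -- the degree is at least two
  have hf2 : 2 ≤ charDegree χ := by
    by_contra hlt
    have hf1 : charDegree χ = 1 := by omega
    have h1 : χ 1 = 1 := by
      rw [← charDegree_natCast hχ, hf1]
      simp
    have hcomm : ∀ a b : G, a * b = b * a := by
      intro a b
      have h2 : ∀ x : G, χ x * χ x⁻¹ = 1 := by
        intro x
        rw [← deg_one_mul hχ h1, mul_inv_cancel, h1]
      have h3 : χ (a * b * (b * a)⁻¹) = χ 1 := by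
        rw [deg_one_mul hχ h1, deg_one_mul hχ h1 a b, mul_comm (χ a), ← deg_one_mul hχ h1 b a, h2, h1]
      have h4 := hfaith _ h3
      exact mul_inv_eq_one.mp h4
    obtain ⟨S⟩ : Nonempty (Sylow p G) := inferInstance
    refine hnn S ⟨fun n hn g => ?_⟩ (hc S)
    rw [hcomm g n, mul_assoc, mul_inv_cancel, mul_one]
    exact hn
  obtain ⟨Q, hHD, hv, hb⟩ := start hp2L hdivL hgenL i.2 hfaithi hdi (by omega) hf2
  -- Sylow subgroups
  have hRL : ∀ R : Sylow p G, (R : Subgroup G) ≤ L := by
    intro R u hu
    apply Subgroup.subset_closure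
    have h1 := pow_card_eq_one' (x := (⟨u, hu⟩ : (R : Subgroup G)))
    rw [hc R] at h1
    have h2 := congrArg Subtype.val h1
    simpa using h2
  have hs : Nat.card (Sylow p G) = p + 1 := by
    have h1 : Nat.card (Sylow p G) ≤ Nat.card (Sylow p L) := by
      apply Nat.card_le_card_of_injective (fun R : Sylow p G => R.subtype (hRL R))
      intro R R' he
      exact Sylow.subtype_injective he
    have h2 := hHD.card_sylow_le hb
    have h3 : Nat.card (Sylow p G) ≡ 1 [MOD p] := card_sylow_modEq_one p G
    have h4 : Nat.card (Sylow p G) ≠ 1 := by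
      intro h5
      have : Subsingleton (Sylow p G) := (Nat.card_eq_one_iff_unique.mp h5).1
      obtain ⟨S⟩ : Nonempty (Sylow p G) := inferInstance
      exact hnn S (Sylow.normal_of_subsingleton S) (hc S)
    have h5 : 0 < Nat.card (Sylow p G) := Nat.card_pos
    have h6 : p ∣ Nat.card (Sylow p G) - 1 := (Nat.modEq_iff_dvd' h5).mp h3.symm
    have h7 : p ≤ Nat.card (Sylow p G) - 1 := Nat.le_of_dvd (by omega) h6
    omega
  -- the central elements
  have hcentral : ∀ t : G, (∀ u ∈ L, t * u = u * t) → t ∈ Subgroup.center G := by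
    intro t ht
    rw [Subgroup.mem_center_iff]
    intro g
    exact central_of_norm hχ hfaith (norm_of_comm hχ hLirr ht) g
  -- the Sylow subgroup
  let P₀ : Subgroup G := Q.map L.subtype
  have hP₀card : Nat.card P₀ = p := by
    rw [Nat.card_congr (Q.equivMapOfInjective L.subtype L.subtype_injective).toEquiv.symm]
    exact hHD.hP
  have hfac : Nat.card P₀ = p ^ (Nat.card G).factorization p := by
    obtain ⟨S⟩ : Nonempty (Sylow p G) := inferInstance
    rw [← S.card_eq_multiplicity, hP₀card]
    exact (hc S).symm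
  let S : Sylow p G := Sylow.ofCard P₀ hfac
  have hS : (S : Subgroup G) = P₀ := Sylow.coe_ofCard P₀ hfac
  obtain ⟨x, hxQ, hx1⟩ : ∃ x ∈ Q, x ≠ 1 := by
    have : Nontrivial Q := Finite.one_lt_card_iff_nontrivial.mp (by rw [hHD.hP]; exact hpp.one_lt)
    obtain ⟨x, hx⟩ := exists_ne (1 : Q)
    exact ⟨x, x.2, fun h1 => hx (Subtype.ext h1)⟩
  have hxP : (x : G) ∈ P₀ := Subgroup.mem_map_of_mem _ hxQ
  have hx1' : (x : G) ≠ 1 := fun h1 => hx1 (Subtype.ext h1)
  have hP₀z : P₀ = Subgroup.zpowers (x : G) := eq_zpowers_of_mem hP₀card hxP hx1'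
  -- the decomposition
  have hdec : ∀ g : G, ∃ l ∈ L, ∃ t : G, (∀ u ∈ L, t * u = u * t) ∧ g = l * t := by
    intro g
    have hg : g ∈ Subgroup.normalizer (S : Set G) ⊔ L := by
      rw [Sylow.normalizer_sup_eq_top' S (hRL S)]
      trivial
    rw [← SetLike.mem_coe, Subgroup.mul_normal, Set.mem_mul] at hg
    obtain ⟨n, hn, l, hl, rfl⟩ := hg
    have hnP : n⁻¹ * (x : G) * n ∈ P₀ := by
      have h1 : (x : G) ∈ (S : Subgroup G) := by
        rw [hS]
        exact hxP
      have h2 := (Subgroup.mem_normalizer_iff.mp (Subgroup.inv_mem _ hn) (x : G)).mp h1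
      rw [inv_inv] at h2
      rw [← hS]
      exact h2
    obtain ⟨x', hx'Q, hx'⟩ := Subgroup.mem_map.mp hnP
    have hx'G : (x' : G) = n⁻¹ * (x : G) * n := hx'
    have hx'1 : x' ≠ 1 := by
      rintro rfl
      apply hx1'
      have h1 : n⁻¹ * (x : G) * n = 1 := by rw [← hx'G]; rfl
      rw [mul_assoc, inv_mul_eq_one] at h1
      exact (mul_eq_right.mp h1.symm) 
    have hvalx : (i : L → ℂ) x = (i : L → ℂ) x' := by
      rw [← hχi, ← hχi, hx'G]
      have h1 := isClassFunction_of_isCharacter hχ (x : G) n⁻¹
      rw [inv_inv] at h1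
      exact h1.symm
    obtain ⟨z, hzN, hz⟩ := hv x x' hxQ hx1 hx'Q hx'1 hvalx
    have hzG : (z : G)⁻¹ * x * z = n⁻¹ * x * n := by
      rw [← hx'G, ← hz]
      rfl
    let w : G := n * (z : G)⁻¹
    have hwx : (x : G) * w = w * x := by
      calc (x : G) * w = n * (n⁻¹ * (x : G) * n) * (z : G)⁻¹ := by
            simp only [w]
            group
        _ = n * ((z : G)⁻¹ * x * z) * (z : G)⁻¹ := by rw [hzG]
        _ = w * x := by
            simp only [w]
            group
    have hwC : w ∈ Cn (S : Subgroup G) := by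
      rw [hS, Subgroup.mem_centralizer_iff]
      intro a ha
      have ha' : a ∈ Subgroup.zpowers (x : G) := by
        rw [← hP₀z]
        exact ha
      rw [Subgroup.mem_zpowers_iff] at ha'
      obtain ⟨k, rfl⟩ := ha'
      exact (Commute.zpow_left hwx k).eq
    obtain ⟨a, ha, hat⟩ := exists_mul_comm_of_centralizer hdiv hsq hs S hwC
    let t : G := a⁻¹ * w
    have htL : ∀ u ∈ L, t * u = u * t := by
      have h1 : L ≤ Subgroup.centralizer ({t} : Set G) := by
        rw [Subgroup.closure_le]
        intro u hu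
        rw [SetLike.mem_coe, Subgroup.mem_centralizer_singleton_iff]
        exact (hat u hu).symm
      intro u hu
      exact (Subgroup.mem_centralizer_singleton_iff.mp (h1 hu)).symm
    refine ⟨a * z * l, L.mul_mem (L.mul_mem (hRL S ha) z.2) hl, t, htL, ?_⟩
    have h1 : n = a * t * z := by
      simp only [t, w]
      group
    rw [h1]
    calc a * t * z * l = a * (t * ((z : G) * l)) := by group
      _ = a * (((z : G) * l) * t) := by rw [htL _ (L.mul_mem z.2 hl)]
      _ = _ := by group
  -- the final isomorphism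
  let φ : L →* G ⧸ Subgroup.center G := (QuotientGroup.mk' (Subgroup.center G)).comp L.subtype
  have hφs : Function.Surjective φ := by
    intro q
    obtain ⟨g, rfl⟩ := QuotientGroup.mk'_surjective _ q
    obtain ⟨l, hl, t, ht, rfl⟩ := hdec g
    refine ⟨⟨l, hl⟩, ?_⟩
    have h3 : QuotientGroup.mk' (Subgroup.center G) t = 1 := by
      rw [QuotientGroup.mk'_apply, QuotientGroup.eq_one_iff]
      exact hcentral t ht
    simp only [φ, MonoidHom.comp_apply, Subgroup.subtype_apply]
    rw [map_mul, h3, mul_one]
  have hφk : φ.ker = Subgroup.center L := by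
    ext a
    rw [MonoidHom.mem_ker]
    have h1 : φ a = QuotientGroup.mk' (Subgroup.center G) (a : G) := rfl
    rw [h1, QuotientGroup.mk'_apply, QuotientGroup.eq_one_iff]
    constructor
    · intro h2
      rw [Subgroup.mem_center_iff]
      intro b
      apply Subtype.ext
      exact Subgroup.mem_center_iff.mp h2 b
    · intro h2
      apply hcentral
      intro u hu
      have h3 := Subgroup.mem_center_iff.mp h2 ⟨u, hu⟩
      exact (congrArg Subtype.val h3).symm
  obtain ⟨e⟩ := hHD.quot_iso hb
  exact ⟨(QuotientGroup.quotientKerEquivOfSurjective φ hφs).symm.trans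
    ((QuotientGroup.quotientMulEquivOfEq hφk).trans e)⟩

end Cfsg.Agent.Lib.CharDeep.Half
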